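import Mathlib

/-!
# Homotopic maps of simplicial objects induce homotopic maps of alternating coface complexes
-/

universe v u v' u'

open CategoryTheory CategoryTheory.Limits Opposite AlgebraicTopology Simplicial

namespace Groth.Agent.CechHtpy

set_option backward.isDefEq.respectTransparency false

variable {D : Type u} [Category.{v} D] {A : Type u'} [Category.{v'} A] [Preadditive A]
  {K L : SimplicialObject D} (a b : L ⟶ K) (E : Dᵒᵖ ⥤ A)

noncomputable abbrev coMap : (alternatingCofaceMapComplex A).obj (K.rightOp ⋙ E) ⟶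
    (alternatingCofaceMapComplex A).obj (L.rightOp ⋙ E) :=
  (alternatingCofaceMapComplex A).map (Functor.whiskerRight (NatTrans.rightOp a) E)

theorem d_unop (M : SimplicialObject D) (n : ℕ) :
    ((alternatingCofaceMapComplex A).obj (M.rightOp ⋙ E)).d n (n + 1)
      = (((alternatingFaceMapComplex Aᵒᵖ).obj (((SimplicialObject.whiskering D Aᵒᵖ).obj E.rightOp).obj M)).d (n + 1) n).unop := by
  show (CochainComplex.of (fun n => (M.rightOp ⋙ E).obj ⦋n⦌) (AlternatingCofaceMapComplex.objD (M.rightOp ⋙ E))
    (AlternatingCofaceMapComplex.d_squared (M.rightOp ⋙ E))).d n (n + 1) = _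
  simp only [CochainComplex.of_d, alternatingFaceMapComplex_obj_d, AlternatingCofaceMapComplex.objD,
    AlternatingFaceMapComplex.objD, unop_sum, unop_zsmul]
  rfl

theorem nonempty_homotopy (H : SimplicialObject.Homotopy a b) : Nonempty (Homotopy (coMap a E) (coMap b E)) := by
  let c := (H.whiskerRight E.rightOp).toChainHomotopy
  refine ⟨⟨fun i j => (c.hom j i).unop, fun i j hij => congrArg Quiver.Hom.unop (c.zero j i hij), fun n => ?_⟩⟩
  have hn := congrArg Quiver.Hom.unop (c.comm n)
  rw [unop_add, unop_add, prevD_eq (j' := n + 1) _ (by simp), unop_comp, ← d_unop] at hn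
  cases n with
  | zero =>
    rw [prevD_eq_zero _ _ (by simp), dNext_eq (i' := 1) _ (by simp)]
    rw [dNext_eq_zero _ _ (by simp), unop_zero, zero_add] at hn
    rw [add_zero]
    exact hn
  | succ n =>
    rw [prevD_eq (j' := n) _ (by simp), dNext_eq (i' := n + 2) _ (by simp)]
    rw [dNext_eq (i' := n) _ (by simp), unop_comp, ← d_unop, add_comm ((c.hom n (n + 1)).unop ≫ _)] at hn
    exact hn

end Groth.Agent.CechHtpy

namespace Groth.Agent.CechHtpy

open FormalCoproduct

universe w

variable {C : Type u} [Category.{v} C] [HasFiniteProducts C] {U V : FormalCoproduct.{w} C}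

theorem mapPower_lift {α β γ : Type} [HasProductsOfShape α C] [HasProductsOfShape β C] [HasProductsOfShape γ C]
    {X : FormalCoproduct.{w} C} (q : β → (X ⟶ V)) (s : α → β) (a : α) :
    (Fan.IsLimit.lift (isLimitPowerFan V β) q ≫ V.mapPower s) ≫ V.powerπ a = q (s a) := by
  rw [Category.assoc, mapPower_π]
  exact Fan.IsLimit.fac (isLimitPowerFan V β) q (s a)

theorem powerMap_π (f : U ⟶ V) {α : Type} [HasProductsOfShape α C] (a : α) :
    powerMap f α ≫ V.powerπ a = U.powerπ a ≫ f := by
  refine FormalCoproduct.hom_ext rfl (fun i => ?_)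
  show (Limits.Pi.map (fun a => f.φ (i a)) ≫ Pi.π (V.obj ∘ (f.f ∘ i)) a) ≫ eqToHom _ = Pi.π (U.obj ∘ i) a ≫ f.φ (i a)
  exact (Category.comp_id _).trans (Limits.Pi.map_π (fun a => f.φ (i a)) a)

theorem predAbove_val {n : ℕ} (i : Fin n) (a : Fin (n + 1)) :
    (i.predAbove a : ℕ) = if (i : ℕ) < (a : ℕ) then (a : ℕ) - 1 else (a : ℕ) := by
  simp only [Fin.predAbove, Fin.lt_def, Fin.val_castSucc]
  split_ifs <;> simp

theorem succAbove_val {n : ℕ} (p : Fin (n + 1)) (b : Fin n) :
    (p.succAbove b : ℕ) = if (b : ℕ) < (p : ℕ) then (b : ℕ) else (b : ℕ) + 1 := by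
  simp only [Fin.succAbove, Fin.lt_def, Fin.val_castSucc]
  split_ifs <;> simp

/-- Two morphisms of formal coproducts induce homotopic maps of Čech objects. -/
noncomputable def cechHomotopy (f g : U ⟶ V) :
    SimplicialObject.Homotopy (FormalCoproduct.cechFunctor.map f) (FormalCoproduct.cechFunctor.map g) := by
  classical
  let P : Bool → (U ⟶ V) := fun c => if c then f else g
  let q : ∀ {n : ℕ}, Fin (n + 1) → Fin (n + 2) → (U.power (Fin (n + 1)) ⟶ V) := fun i a =>
    U.powerπ (i.predAbove a) ≫ P (decide ((a : ℕ) ≤ (i : ℕ)))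
  have key : ∀ {n : ℕ} {x y : Fin (n + 1)} {c d : Bool}, x = y → c = d → U.powerπ x ≫ P c = U.powerπ y ≫ P d := by
    rintro n x y c d rfl rfl; rfl
  have hh : ∀ {n : ℕ} (i : Fin (n + 1)) {m : ℕ} (s : Fin (m + 1) → Fin (n + 2)) (b : Fin (m + 1)),
      (Fan.IsLimit.lift (isLimitPowerFan V (Fin (n + 2))) (q i) ≫ V.mapPower s) ≫ V.powerπ b = q i (s b) :=
    fun i m s b => mapPower_lift (γ := Fin 1) (q i) s b
  have hh' : ∀ {n : ℕ} (i : Fin (n + 1)) {m : ℕ} (s : Fin (n + 1) → Fin (m + 1)) (b : Fin (n + 2)),
      (U.mapPower s ≫ Fan.IsLimit.lift (isLimitPowerFan V (Fin (n + 2))) (q i)) ≫ V.powerπ b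
        = U.powerπ (s (i.predAbove b)) ≫ P (decide ((b : ℕ) ≤ (i : ℕ))) := fun {n} i {m} s b => by
    rw [Category.assoc]
    refine (congrArg _ (Fan.IsLimit.fac (isLimitPowerFan V (Fin (n + 2))) (q i) b)).trans ?_
    rw [← Category.assoc, mapPower_π]
  exact
  { h := fun {n} i => Fan.IsLimit.lift (isLimitPowerFan V (Fin (n + 2))) (q i)
    h_zero_comp_δ_zero := fun n => Fan.IsLimit.hom_ext (isLimitPowerFan V (Fin (n + 1))) _ _ fun b => by
      refine (hh 0 (Fin.succAbove 0) b).trans ?_
      refine (key (y := b) (d := false) (by simp) (by simp)).trans ?_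
      exact (powerMap_π _ b).symm
    h_last_comp_δ_last := fun n => Fan.IsLimit.hom_ext (isLimitPowerFan V (Fin (n + 1))) _ _ fun b => by
      refine (hh (Fin.last n) (Fin.succAbove (Fin.last (n + 1))) b).trans ?_
      refine (key (y := b) (d := true) ?_ ?_).trans ?_
      · simp only [Fin.ext_iff, predAbove_val, succAbove_val, Fin.val_last]
        (try split_ifs) <;> omega
      · simp only [succAbove_val, Fin.val_last, decide_eq_true_eq]
        (try split_ifs) <;> omega
      exact (powerMap_π _ b).symm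
    h_succ_comp_δ_castSucc_of_lt := fun {n} i j hij => Fan.IsLimit.hom_ext (isLimitPowerFan V (Fin (n + 2))) _ _ fun b => by
      refine (hh j.succ (Fin.succAbove i.castSucc) b).trans ((key ?_ ?_).trans (hh' j (Fin.succAbove i) b).symm)
      all_goals
        simp only [Fin.le_def, Fin.val_castSucc] at hij
        simp only [Fin.ext_iff, predAbove_val, succAbove_val, Fin.val_succ, Fin.val_castSucc, Fin.val_last, decide_eq_decide]
        (try split_ifs) <;> omega
    h_succ_comp_δ_castSucc_succ := fun {n} j => Fan.IsLimit.hom_ext (isLimitPowerFan V (Fin (n + 2))) _ _ fun b => by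
      refine (hh j.succ (Fin.succAbove j.castSucc.succ) b).trans
        ((key ?_ ?_).trans (hh j.castSucc (Fin.succAbove j.castSucc.succ) b).symm)
      all_goals
        simp only [Fin.ext_iff, predAbove_val, succAbove_val, Fin.val_succ, Fin.val_castSucc, Fin.val_last, decide_eq_decide]
        (try split_ifs) <;> omega
    h_castSucc_comp_δ_succ_of_lt := fun {n} i j hji => Fan.IsLimit.hom_ext (isLimitPowerFan V (Fin (n + 2))) _ _ fun b => by
      refine (hh j.castSucc (Fin.succAbove i.succ) b).trans ((key ?_ ?_).trans (hh' j (Fin.succAbove i) b).symm)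
      all_goals
        simp only [Fin.lt_def, Fin.val_castSucc] at hji
        simp only [Fin.ext_iff, predAbove_val, succAbove_val, Fin.val_succ, Fin.val_castSucc, Fin.val_last, decide_eq_decide]
        (try split_ifs) <;> omega
    h_comp_σ_castSucc_of_le := fun {n} i j hij => Fan.IsLimit.hom_ext (isLimitPowerFan V (Fin (n + 3))) _ _ fun b => by
      refine (hh j (Fin.predAbove i.castSucc) b).trans ((key ?_ ?_).trans (hh' j.succ (Fin.predAbove i) b).symm)
      all_goals
        simp only [Fin.le_def] at hij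
        simp only [Fin.ext_iff, predAbove_val, succAbove_val, Fin.val_succ, Fin.val_castSucc, Fin.val_last, decide_eq_decide]
        (try split_ifs) <;> omega
    h_comp_σ_succ_of_lt := fun {n} i j hji => Fan.IsLimit.hom_ext (isLimitPowerFan V (Fin (n + 3))) _ _ fun b => by
      refine (hh j (Fin.predAbove i.succ) b).trans ((key ?_ ?_).trans (hh' j.castSucc (Fin.predAbove i) b).symm)
      all_goals
        simp only [Fin.le_def] at hji
        simp only [Fin.ext_iff, predAbove_val, succAbove_val, Fin.val_succ, Fin.val_castSucc, Fin.val_last, decide_eq_decide]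
        (try split_ifs) <;> omega }

end Groth.Agent.CechHtpy
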